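import Mathlib
import Cfsg.Agent.Helper17.U62.F4

/-!
# `14 × 14` matrices over the concrete field `F4` as kernel-friendly data

Structures `V14`, `M14` with fast operations and the bridge `toMat14` to
`Matrix (Fin 14) (Fin 14) F4` (same design as `Helper17.U62.M6`).
-/

set_option autoImplicit false
set_option linter.all false
set_option maxRecDepth 100000

namespace Cfsg.Agent.Helper17.G24

open Cfsg.Agent.Helper17.U62 Matrix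

/-- fourteen entries. -/
structure V14 where
  a0 : F4
  a1 : F4
  a2 : F4
  a3 : F4
  a4 : F4
  a5 : F4
  a6 : F4
  a7 : F4
  a8 : F4
  a9 : F4
  a10 : F4
  a11 : F4
  a12 : F4
  a13 : F4
deriving DecidableEq

/-- fourteen rows. -/
structure M14 where
  r0 : V14
  r1 : V14
  r2 : V14
  r3 : V14
  r4 : V14
  r5 : V14
  r6 : V14
  r7 : V14
  r8 : V14
  r9 : V14
  r10 : V14
  r11 : V14
  r12 : V14
  r13 : V14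
deriving DecidableEq

namespace V14

def dot (r c : V14) : F4 :=
  r.a0 * c.a0 + r.a1 * c.a1 + r.a2 * c.a2 + r.a3 * c.a3 + r.a4 * c.a4 + r.a5 * c.a5 + r.a6 * c.a6 + r.a7 * c.a7 + r.a8 * c.a8 + r.a9 * c.a9 + r.a10 * c.a10 + r.a11 * c.a11 + r.a12 * c.a12 + r.a13 * c.a13

def getN (v : V14) : Nat → F4
  | 0 => v.a0
  | 1 => v.a1
  | 2 => v.a2
  | 3 => v.a3
  | 4 => v.a4
  | 5 => v.a5
  | 6 => v.a6
  | 7 => v.a7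
  | 8 => v.a8
  | 9 => v.a9
  | 10 => v.a10
  | 11 => v.a11
  | 12 => v.a12
  | _ => v.a13

def get (v : V14) (j : Fin 14) : F4 := v.getN j.val

def basis : Nat → V14
  | 0 => ⟨1, 0, 0, 0, 0, 0, 0, 0, 0, 0, 0, 0, 0, 0⟩
  | 1 => ⟨0, 1, 0, 0, 0, 0, 0, 0, 0, 0, 0, 0, 0, 0⟩
  | 2 => ⟨0, 0, 1, 0, 0, 0, 0, 0, 0, 0, 0, 0, 0, 0⟩
  | 3 => ⟨0, 0, 0, 1, 0, 0, 0, 0, 0, 0, 0, 0, 0, 0⟩
  | 4 => ⟨0, 0, 0, 0, 1, 0, 0, 0, 0, 0, 0, 0, 0, 0⟩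
  | 5 => ⟨0, 0, 0, 0, 0, 1, 0, 0, 0, 0, 0, 0, 0, 0⟩
  | 6 => ⟨0, 0, 0, 0, 0, 0, 1, 0, 0, 0, 0, 0, 0, 0⟩
  | 7 => ⟨0, 0, 0, 0, 0, 0, 0, 1, 0, 0, 0, 0, 0, 0⟩
  | 8 => ⟨0, 0, 0, 0, 0, 0, 0, 0, 1, 0, 0, 0, 0, 0⟩
  | 9 => ⟨0, 0, 0, 0, 0, 0, 0, 0, 0, 1, 0, 0, 0, 0⟩
  | 10 => ⟨0, 0, 0, 0, 0, 0, 0, 0, 0, 0, 1, 0, 0, 0⟩
  | 11 => ⟨0, 0, 0, 0, 0, 0, 0, 0, 0, 0, 0, 1, 0, 0⟩
  | 12 => ⟨0, 0, 0, 0, 0, 0, 0, 0, 0, 0, 0, 0, 1, 0⟩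
  | _ => ⟨0, 0, 0, 0, 0, 0, 0, 0, 0, 0, 0, 0, 0, 1⟩

theorem dot_eq (r c : V14) : r.dot c = ∑ k : Fin 14, r.get k * c.get k := by
  simp [dot, get, getN, Fin.sum_univ_succ, add_assoc]

end V14

namespace M14

def tr (A : M14) : M14 :=
  ⟨⟨A.r0.a0, A.r1.a0, A.r2.a0, A.r3.a0, A.r4.a0, A.r5.a0, A.r6.a0, A.r7.a0, A.r8.a0, A.r9.a0, A.r10.a0, A.r11.a0, A.r12.a0, A.r13.a0⟩,
   ⟨A.r0.a1, A.r1.a1, A.r2.a1, A.r3.a1, A.r4.a1, A.r5.a1, A.r6.a1, A.r7.a1, A.r8.a1, A.r9.a1, A.r10.a1, A.r11.a1, A.r12.a1, A.r13.a1⟩,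
   ⟨A.r0.a2, A.r1.a2, A.r2.a2, A.r3.a2, A.r4.a2, A.r5.a2, A.r6.a2, A.r7.a2, A.r8.a2, A.r9.a2, A.r10.a2, A.r11.a2, A.r12.a2, A.r13.a2⟩,
   ⟨A.r0.a3, A.r1.a3, A.r2.a3, A.r3.a3, A.r4.a3, A.r5.a3, A.r6.a3, A.r7.a3, A.r8.a3, A.r9.a3, A.r10.a3, A.r11.a3, A.r12.a3, A.r13.a3⟩,
   ⟨A.r0.a4, A.r1.a4, A.r2.a4, A.r3.a4, A.r4.a4, A.r5.a4, A.r6.a4, A.r7.a4, A.r8.a4, A.r9.a4, A.r10.a4, A.r11.a4, A.r12.a4, A.r13.a4⟩,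
   ⟨A.r0.a5, A.r1.a5, A.r2.a5, A.r3.a5, A.r4.a5, A.r5.a5, A.r6.a5, A.r7.a5, A.r8.a5, A.r9.a5, A.r10.a5, A.r11.a5, A.r12.a5, A.r13.a5⟩,
   ⟨A.r0.a6, A.r1.a6, A.r2.a6, A.r3.a6, A.r4.a6, A.r5.a6, A.r6.a6, A.r7.a6, A.r8.a6, A.r9.a6, A.r10.a6, A.r11.a6, A.r12.a6, A.r13.a6⟩,
   ⟨A.r0.a7, A.r1.a7, A.r2.a7, A.r3.a7, A.r4.a7, A.r5.a7, A.r6.a7, A.r7.a7, A.r8.a7, A.r9.a7, A.r10.a7, A.r11.a7, A.r12.a7, A.r13.a7⟩,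
   ⟨A.r0.a8, A.r1.a8, A.r2.a8, A.r3.a8, A.r4.a8, A.r5.a8, A.r6.a8, A.r7.a8, A.r8.a8, A.r9.a8, A.r10.a8, A.r11.a8, A.r12.a8, A.r13.a8⟩,
   ⟨A.r0.a9, A.r1.a9, A.r2.a9, A.r3.a9, A.r4.a9, A.r5.a9, A.r6.a9, A.r7.a9, A.r8.a9, A.r9.a9, A.r10.a9, A.r11.a9, A.r12.a9, A.r13.a9⟩,
   ⟨A.r0.a10, A.r1.a10, A.r2.a10, A.r3.a10, A.r4.a10, A.r5.a10, A.r6.a10, A.r7.a10, A.r8.a10, A.r9.a10, A.r10.a10, A.r11.a10, A.r12.a10, A.r13.a10⟩,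
   ⟨A.r0.a11, A.r1.a11, A.r2.a11, A.r3.a11, A.r4.a11, A.r5.a11, A.r6.a11, A.r7.a11, A.r8.a11, A.r9.a11, A.r10.a11, A.r11.a11, A.r12.a11, A.r13.a11⟩,
   ⟨A.r0.a12, A.r1.a12, A.r2.a12, A.r3.a12, A.r4.a12, A.r5.a12, A.r6.a12, A.r7.a12, A.r8.a12, A.r9.a12, A.r10.a12, A.r11.a12, A.r12.a12, A.r13.a12⟩,
   ⟨A.r0.a13, A.r1.a13, A.r2.a13, A.r3.a13, A.r4.a13, A.r5.a13, A.r6.a13, A.r7.a13, A.r8.a13, A.r9.a13, A.r10.a13, A.r11.a13, A.r12.a13, A.r13.a13⟩⟩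

def rowMul (r : V14) (Bt : M14) : V14 :=
  ⟨r.dot Bt.r0, r.dot Bt.r1, r.dot Bt.r2, r.dot Bt.r3, r.dot Bt.r4, r.dot Bt.r5, r.dot Bt.r6, r.dot Bt.r7, r.dot Bt.r8, r.dot Bt.r9, r.dot Bt.r10, r.dot Bt.r11, r.dot Bt.r12, r.dot Bt.r13⟩

def mulT (A Bt : M14) : M14 :=
  ⟨rowMul A.r0 Bt, rowMul A.r1 Bt, rowMul A.r2 Bt, rowMul A.r3 Bt, rowMul A.r4 Bt, rowMul A.r5 Bt, rowMul A.r6 Bt, rowMul A.r7 Bt, rowMul A.r8 Bt, rowMul A.r9 Bt, rowMul A.r10 Bt, rowMul A.r11 Bt, rowMul A.r12 Bt, rowMul A.r13 Bt⟩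

def mul (A B : M14) : M14 := mulT A B.tr

def one : M14 :=
  ⟨V14.basis 0, V14.basis 1, V14.basis 2, V14.basis 3, V14.basis 4, V14.basis 5, V14.basis 6, V14.basis 7, V14.basis 8, V14.basis 9, V14.basis 10, V14.basis 11, V14.basis 12, V14.basis 13⟩

def rowN (A : M14) : Nat → V14
  | 0 => A.r0
  | 1 => A.r1
  | 2 => A.r2
  | 3 => A.r3
  | 4 => A.r4
  | 5 => A.r5
  | 6 => A.r6
  | 7 => A.r7
  | 8 => A.r8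
  | 9 => A.r9
  | 10 => A.r10
  | 11 => A.r11
  | 12 => A.r12
  | _ => A.r13

def row (A : M14) (i : Fin 14) : V14 := A.rowN i.val

end M14

/-- the matrix described by the data -/
def toMat14 (A : M14) : Matrix (Fin 14) (Fin 14) F4 :=
  Matrix.of fun i j => (A.row i).get j

theorem toMat14_apply (A : M14) (i j : Fin 14) : toMat14 A i j = (A.row i).get j := rfl

theorem rowN_mulT (A Bt : M14) (k : Nat) : (A.mulT Bt).rowN k = M14.rowMul (A.rowN k) Bt := by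
  rcases k with _ | _ | _ | _ | _ | _ | _ | _ | _ | _ | _ | _ | _ | _ | k <;> rfl

theorem row_mulT (A Bt : M14) (i : Fin 14) : (A.mulT Bt).row i = M14.rowMul (A.row i) Bt :=
  rowN_mulT A Bt i.val

theorem getN_rowMul (r : V14) (Bt : M14) (k : Nat) :
    (M14.rowMul r Bt).getN k = r.dot (Bt.rowN k) := by
  rcases k with _ | _ | _ | _ | _ | _ | _ | _ | _ | _ | _ | _ | _ | _ | k <;> rfl

theorem get_rowMul (r : V14) (Bt : M14) (j : Fin 14) : (M14.rowMul r Bt).get j = r.dot (Bt.row j) :=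
  getN_rowMul r Bt j.val

theorem getN_rowN_tr (B : M14) (j k : Nat) (hj : j < 14) (hk : k < 14) :
    ((B.tr).rowN j).getN k = (B.rowN k).getN j := by
  interval_cases j <;> interval_cases k <;> rfl

theorem get_row_tr (B : M14) (j k : Fin 14) : ((B.tr).row j).get k = (B.row k).get j :=
  getN_rowN_tr B j.val k.val j.isLt k.isLt

theorem toMat14_mul (A B : M14) : toMat14 (A.mul B) = toMat14 A * toMat14 B := by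
  ext i j
  rw [Matrix.mul_apply, toMat14_apply, M14.mul, row_mulT, get_rowMul, V14.dot_eq]
  apply Finset.sum_congr rfl
  intro k _
  rw [get_row_tr, toMat14_apply, toMat14_apply]

theorem toMat14_one : toMat14 M14.one = 1 := by
  ext i j
  fin_cases i <;> fin_cases j <;> decide

end Cfsg.Agent.Helper17.G24
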