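import Mathlib
import Cfsg.Prelude.Def_ChevG2
import Cfsg.Prelude.Def_ChevWords
import Cfsg.Agent.Helper17.G24.Mat
import Cfsg.Agent.Helper17.SuzSub.Defs

/-!
# Six involutions of the Chevalley group `G₂(4)` satisfying the relations of `SuzP1`

The root elements used are given as data and compared entrywise with the matrices `x_r(t)` of
the definition; the six generators are products of such root elements.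
-/

set_option autoImplicit false
set_option linter.all false
set_option maxRecDepth 100000

namespace Cfsg.Agent.Helper17.G24

open Cfsg.Agent.Helper17.U62 Cfsg.Agent.Helper17.SuzSub Matrix

/-- the index type of the adjoint module of type `G₂`. -/
abbrev IdxG : Type := Cfsg.Lie.chevG2.Idx

/-- coordinates `0, 1` for the Cartan part, `2 + s` for the root vector `e_s`. -/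
def e14 : IdxG ≃ Fin 14 where
  toFun
    | .inl i => ⟨i.val, by have : i.val < 2 := i.isLt; omega⟩
    | .inr i => ⟨2 + i.val, by have : i.val < 12 := i.isLt; omega⟩
  invFun j :=
    if h : j.val < 2 then .inl ⟨j.val, h⟩ else .inr ⟨j.val - 2, by
      have : j.val < 14 := j.isLt
      show j.val - 2 < 12
      omega⟩
  left_inv := by decide
  right_inv := by decide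

/-- the matrix on `IdxG` described by the data. -/
def toMatI (A : M14) : Matrix IdxG IdxG F4 := (toMat14 A).submatrix e14 e14

theorem toMatI_mul (A B : M14) : toMatI (A.mul B) = toMatI A * toMatI B := by
  unfold toMatI
  rw [toMat14_mul, Matrix.submatrix_mul_equiv]

theorem toMatI_one : toMatI M14.one = 1 := by
  unfold toMatI
  rw [toMat14_one, Matrix.submatrix_one_equiv]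

/-- field elements by code. -/
def tOf : ℕ → F4
  | 0 => F4.e0
  | 1 => F4.e1
  | 2 => F4.e2
  | _ => F4.e3

/-- the root elements `x_r(t)` that are used, as data. -/
def xM : ℕ → ℕ → M14
  | 4, 1 =>
    ⟨⟨F4.e1, F4.e0, F4.e0, F4.e0, F4.e0, F4.e0, F4.e0, F4.e0, F4.e0, F4.e1, F4.e0, F4.e0, F4.e0, F4.e0⟩,
     ⟨F4.e0, F4.e1, F4.e0, F4.e0, F4.e0, F4.e0, F4.e0, F4.e0, F4.e0, F4.e0, F4.e0, F4.e0, F4.e0, F4.e0⟩,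
     ⟨F4.e0, F4.e0, F4.e1, F4.e0, F4.e0, F4.e0, F4.e0, F4.e0, F4.e0, F4.e0, F4.e0, F4.e0, F4.e0, F4.e0⟩,
     ⟨F4.e0, F4.e0, F4.e0, F4.e1, F4.e1, F4.e1, F4.e0, F4.e1, F4.e0, F4.e0, F4.e0, F4.e0, F4.e0, F4.e0⟩,
     ⟨F4.e0, F4.e0, F4.e0, F4.e0, F4.e1, F4.e0, F4.e0, F4.e1, F4.e0, F4.e0, F4.e0, F4.e0, F4.e0, F4.e0⟩,
     ⟨F4.e0, F4.e0, F4.e0, F4.e0, F4.e0, F4.e1, F4.e0, F4.e1, F4.e0, F4.e0, F4.e0, F4.e0, F4.e0, F4.e0⟩,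
     ⟨F4.e0, F4.e1, F4.e0, F4.e0, F4.e0, F4.e0, F4.e1, F4.e0, F4.e0, F4.e1, F4.e0, F4.e0, F4.e0, F4.e0⟩,
     ⟨F4.e0, F4.e0, F4.e0, F4.e0, F4.e0, F4.e0, F4.e0, F4.e1, F4.e0, F4.e0, F4.e0, F4.e0, F4.e0, F4.e0⟩,
     ⟨F4.e0, F4.e0, F4.e0, F4.e0, F4.e0, F4.e0, F4.e0, F4.e0, F4.e1, F4.e0, F4.e1, F4.e1, F4.e1, F4.e0⟩,
     ⟨F4.e0, F4.e0, F4.e0, F4.e0, F4.e0, F4.e0, F4.e0, F4.e0, F4.e0, F4.e1, F4.e0, F4.e0, F4.e0, F4.e0⟩,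
     ⟨F4.e0, F4.e0, F4.e0, F4.e0, F4.e0, F4.e0, F4.e0, F4.e0, F4.e0, F4.e0, F4.e1, F4.e0, F4.e1, F4.e0⟩,
     ⟨F4.e0, F4.e0, F4.e0, F4.e0, F4.e0, F4.e0, F4.e0, F4.e0, F4.e0, F4.e0, F4.e0, F4.e1, F4.e1, F4.e0⟩,
     ⟨F4.e0, F4.e0, F4.e0, F4.e0, F4.e0, F4.e0, F4.e0, F4.e0, F4.e0, F4.e0, F4.e0, F4.e0, F4.e1, F4.e0⟩,
     ⟨F4.e0, F4.e0, F4.e0, F4.e0, F4.e0, F4.e0, F4.e0, F4.e0, F4.e0, F4.e0, F4.e0, F4.e0, F4.e0, F4.e1⟩⟩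
  | 4, 2 =>
    ⟨⟨F4.e1, F4.e0, F4.e0, F4.e0, F4.e0, F4.e0, F4.e0, F4.e0, F4.e0, F4.e2, F4.e0, F4.e0, F4.e0, F4.e0⟩,
     ⟨F4.e0, F4.e1, F4.e0, F4.e0, F4.e0, F4.e0, F4.e0, F4.e0, F4.e0, F4.e0, F4.e0, F4.e0, F4.e0, F4.e0⟩,
     ⟨F4.e0, F4.e0, F4.e1, F4.e0, F4.e0, F4.e0, F4.e0, F4.e0, F4.e0, F4.e0, F4.e0, F4.e0, F4.e0, F4.e0⟩,
     ⟨F4.e0, F4.e0, F4.e0, F4.e1, F4.e2, F4.e3, F4.e0, F4.e1, F4.e0, F4.e0, F4.e0, F4.e0, F4.e0, F4.e0⟩,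
     ⟨F4.e0, F4.e0, F4.e0, F4.e0, F4.e1, F4.e0, F4.e0, F4.e3, F4.e0, F4.e0, F4.e0, F4.e0, F4.e0, F4.e0⟩,
     ⟨F4.e0, F4.e0, F4.e0, F4.e0, F4.e0, F4.e1, F4.e0, F4.e2, F4.e0, F4.e0, F4.e0, F4.e0, F4.e0, F4.e0⟩,
     ⟨F4.e0, F4.e2, F4.e0, F4.e0, F4.e0, F4.e0, F4.e1, F4.e0, F4.e0, F4.e3, F4.e0, F4.e0, F4.e0, F4.e0⟩,
     ⟨F4.e0, F4.e0, F4.e0, F4.e0, F4.e0, F4.e0, F4.e0, F4.e1, F4.e0, F4.e0, F4.e0, F4.e0, F4.e0, F4.e0⟩,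
     ⟨F4.e0, F4.e0, F4.e0, F4.e0, F4.e0, F4.e0, F4.e0, F4.e0, F4.e1, F4.e0, F4.e2, F4.e3, F4.e1, F4.e0⟩,
     ⟨F4.e0, F4.e0, F4.e0, F4.e0, F4.e0, F4.e0, F4.e0, F4.e0, F4.e0, F4.e1, F4.e0, F4.e0, F4.e0, F4.e0⟩,
     ⟨F4.e0, F4.e0, F4.e0, F4.e0, F4.e0, F4.e0, F4.e0, F4.e0, F4.e0, F4.e0, F4.e1, F4.e0, F4.e3, F4.e0⟩,
     ⟨F4.e0, F4.e0, F4.e0, F4.e0, F4.e0, F4.e0, F4.e0, F4.e0, F4.e0, F4.e0, F4.e0, F4.e1, F4.e2, F4.e0⟩,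
     ⟨F4.e0, F4.e0, F4.e0, F4.e0, F4.e0, F4.e0, F4.e0, F4.e0, F4.e0, F4.e0, F4.e0, F4.e0, F4.e1, F4.e0⟩,
     ⟨F4.e0, F4.e0, F4.e0, F4.e0, F4.e0, F4.e0, F4.e0, F4.e0, F4.e0, F4.e0, F4.e0, F4.e0, F4.e0, F4.e1⟩⟩
  | 5, 1 =>
    ⟨⟨F4.e1, F4.e0, F4.e0, F4.e0, F4.e0, F4.e0, F4.e0, F4.e0, F4.e0, F4.e0, F4.e0, F4.e0, F4.e0, F4.e0⟩,
     ⟨F4.e0, F4.e1, F4.e0, F4.e0, F4.e0, F4.e0, F4.e0, F4.e0, F4.e1, F4.e0, F4.e0, F4.e0, F4.e0, F4.e0⟩,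
     ⟨F4.e0, F4.e0, F4.e1, F4.e1, F4.e0, F4.e0, F4.e0, F4.e0, F4.e0, F4.e0, F4.e0, F4.e0, F4.e0, F4.e0⟩,
     ⟨F4.e0, F4.e0, F4.e0, F4.e1, F4.e0, F4.e0, F4.e0, F4.e0, F4.e0, F4.e0, F4.e0, F4.e0, F4.e0, F4.e0⟩,
     ⟨F4.e0, F4.e0, F4.e0, F4.e0, F4.e1, F4.e0, F4.e0, F4.e0, F4.e0, F4.e0, F4.e0, F4.e0, F4.e0, F4.e0⟩,
     ⟨F4.e0, F4.e0, F4.e0, F4.e0, F4.e0, F4.e1, F4.e1, F4.e0, F4.e0, F4.e0, F4.e0, F4.e0, F4.e0, F4.e0⟩,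
     ⟨F4.e0, F4.e0, F4.e0, F4.e0, F4.e0, F4.e0, F4.e1, F4.e0, F4.e0, F4.e0, F4.e0, F4.e0, F4.e0, F4.e0⟩,
     ⟨F4.e1, F4.e0, F4.e0, F4.e0, F4.e0, F4.e0, F4.e0, F4.e1, F4.e1, F4.e0, F4.e0, F4.e0, F4.e0, F4.e0⟩,
     ⟨F4.e0, F4.e0, F4.e0, F4.e0, F4.e0, F4.e0, F4.e0, F4.e0, F4.e1, F4.e0, F4.e0, F4.e0, F4.e0, F4.e0⟩,
     ⟨F4.e0, F4.e0, F4.e0, F4.e0, F4.e0, F4.e0, F4.e0, F4.e0, F4.e0, F4.e1, F4.e1, F4.e0, F4.e0, F4.e0⟩,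
     ⟨F4.e0, F4.e0, F4.e0, F4.e0, F4.e0, F4.e0, F4.e0, F4.e0, F4.e0, F4.e0, F4.e1, F4.e0, F4.e0, F4.e0⟩,
     ⟨F4.e0, F4.e0, F4.e0, F4.e0, F4.e0, F4.e0, F4.e0, F4.e0, F4.e0, F4.e0, F4.e0, F4.e1, F4.e0, F4.e0⟩,
     ⟨F4.e0, F4.e0, F4.e0, F4.e0, F4.e0, F4.e0, F4.e0, F4.e0, F4.e0, F4.e0, F4.e0, F4.e0, F4.e1, F4.e1⟩,
     ⟨F4.e0, F4.e0, F4.e0, F4.e0, F4.e0, F4.e0, F4.e0, F4.e0, F4.e0, F4.e0, F4.e0, F4.e0, F4.e0, F4.e1⟩⟩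
  | 5, 2 =>
    ⟨⟨F4.e1, F4.e0, F4.e0, F4.e0, F4.e0, F4.e0, F4.e0, F4.e0, F4.e0, F4.e0, F4.e0, F4.e0, F4.e0, F4.e0⟩,
     ⟨F4.e0, F4.e1, F4.e0, F4.e0, F4.e0, F4.e0, F4.e0, F4.e0, F4.e2, F4.e0, F4.e0, F4.e0, F4.e0, F4.e0⟩,
     ⟨F4.e0, F4.e0, F4.e1, F4.e2, F4.e0, F4.e0, F4.e0, F4.e0, F4.e0, F4.e0, F4.e0, F4.e0, F4.e0, F4.e0⟩,
     ⟨F4.e0, F4.e0, F4.e0, F4.e1, F4.e0, F4.e0, F4.e0, F4.e0, F4.e0, F4.e0, F4.e0, F4.e0, F4.e0, F4.e0⟩,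
     ⟨F4.e0, F4.e0, F4.e0, F4.e0, F4.e1, F4.e0, F4.e0, F4.e0, F4.e0, F4.e0, F4.e0, F4.e0, F4.e0, F4.e0⟩,
     ⟨F4.e0, F4.e0, F4.e0, F4.e0, F4.e0, F4.e1, F4.e2, F4.e0, F4.e0, F4.e0, F4.e0, F4.e0, F4.e0, F4.e0⟩,
     ⟨F4.e0, F4.e0, F4.e0, F4.e0, F4.e0, F4.e0, F4.e1, F4.e0, F4.e0, F4.e0, F4.e0, F4.e0, F4.e0, F4.e0⟩,
     ⟨F4.e2, F4.e0, F4.e0, F4.e0, F4.e0, F4.e0, F4.e0, F4.e1, F4.e3, F4.e0, F4.e0, F4.e0, F4.e0, F4.e0⟩,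
     ⟨F4.e0, F4.e0, F4.e0, F4.e0, F4.e0, F4.e0, F4.e0, F4.e0, F4.e1, F4.e0, F4.e0, F4.e0, F4.e0, F4.e0⟩,
     ⟨F4.e0, F4.e0, F4.e0, F4.e0, F4.e0, F4.e0, F4.e0, F4.e0, F4.e0, F4.e1, F4.e2, F4.e0, F4.e0, F4.e0⟩,
     ⟨F4.e0, F4.e0, F4.e0, F4.e0, F4.e0, F4.e0, F4.e0, F4.e0, F4.e0, F4.e0, F4.e1, F4.e0, F4.e0, F4.e0⟩,
     ⟨F4.e0, F4.e0, F4.e0, F4.e0, F4.e0, F4.e0, F4.e0, F4.e0, F4.e0, F4.e0, F4.e0, F4.e1, F4.e0, F4.e0⟩,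
     ⟨F4.e0, F4.e0, F4.e0, F4.e0, F4.e0, F4.e0, F4.e0, F4.e0, F4.e0, F4.e0, F4.e0, F4.e0, F4.e1, F4.e2⟩,
     ⟨F4.e0, F4.e0, F4.e0, F4.e0, F4.e0, F4.e0, F4.e0, F4.e0, F4.e0, F4.e0, F4.e0, F4.e0, F4.e0, F4.e1⟩⟩
  | 6, 1 =>
    ⟨⟨F4.e1, F4.e0, F4.e0, F4.e0, F4.e0, F4.e0, F4.e0, F4.e0, F4.e0, F4.e0, F4.e0, F4.e0, F4.e0, F4.e0⟩,
     ⟨F4.e0, F4.e1, F4.e0, F4.e0, F4.e0, F4.e0, F4.e0, F4.e1, F4.e0, F4.e0, F4.e0, F4.e0, F4.e0, F4.e0⟩,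
     ⟨F4.e0, F4.e0, F4.e1, F4.e0, F4.e0, F4.e0, F4.e0, F4.e0, F4.e0, F4.e0, F4.e0, F4.e0, F4.e0, F4.e0⟩,
     ⟨F4.e0, F4.e0, F4.e1, F4.e1, F4.e0, F4.e0, F4.e0, F4.e0, F4.e0, F4.e0, F4.e0, F4.e0, F4.e0, F4.e0⟩,
     ⟨F4.e0, F4.e0, F4.e0, F4.e0, F4.e1, F4.e0, F4.e0, F4.e0, F4.e0, F4.e0, F4.e0, F4.e0, F4.e0, F4.e0⟩,
     ⟨F4.e0, F4.e0, F4.e0, F4.e0, F4.e0, F4.e1, F4.e0, F4.e0, F4.e0, F4.e0, F4.e0, F4.e0, F4.e0, F4.e0⟩,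
     ⟨F4.e0, F4.e0, F4.e0, F4.e0, F4.e0, F4.e1, F4.e1, F4.e0, F4.e0, F4.e0, F4.e0, F4.e0, F4.e0, F4.e0⟩,
     ⟨F4.e0, F4.e0, F4.e0, F4.e0, F4.e0, F4.e0, F4.e0, F4.e1, F4.e0, F4.e0, F4.e0, F4.e0, F4.e0, F4.e0⟩,
     ⟨F4.e1, F4.e0, F4.e0, F4.e0, F4.e0, F4.e0, F4.e0, F4.e1, F4.e1, F4.e0, F4.e0, F4.e0, F4.e0, F4.e0⟩,
     ⟨F4.e0, F4.e0, F4.e0, F4.e0, F4.e0, F4.e0, F4.e0, F4.e0, F4.e0, F4.e1, F4.e0, F4.e0, F4.e0, F4.e0⟩,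
     ⟨F4.e0, F4.e0, F4.e0, F4.e0, F4.e0, F4.e0, F4.e0, F4.e0, F4.e0, F4.e1, F4.e1, F4.e0, F4.e0, F4.e0⟩,
     ⟨F4.e0, F4.e0, F4.e0, F4.e0, F4.e0, F4.e0, F4.e0, F4.e0, F4.e0, F4.e0, F4.e0, F4.e1, F4.e0, F4.e0⟩,
     ⟨F4.e0, F4.e0, F4.e0, F4.e0, F4.e0, F4.e0, F4.e0, F4.e0, F4.e0, F4.e0, F4.e0, F4.e0, F4.e1, F4.e0⟩,
     ⟨F4.e0, F4.e0, F4.e0, F4.e0, F4.e0, F4.e0, F4.e0, F4.e0, F4.e0, F4.e0, F4.e0, F4.e0, F4.e1, F4.e1⟩⟩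
  | 6, 2 =>
    ⟨⟨F4.e1, F4.e0, F4.e0, F4.e0, F4.e0, F4.e0, F4.e0, F4.e0, F4.e0, F4.e0, F4.e0, F4.e0, F4.e0, F4.e0⟩,
     ⟨F4.e0, F4.e1, F4.e0, F4.e0, F4.e0, F4.e0, F4.e0, F4.e2, F4.e0, F4.e0, F4.e0, F4.e0, F4.e0, F4.e0⟩,
     ⟨F4.e0, F4.e0, F4.e1, F4.e0, F4.e0, F4.e0, F4.e0, F4.e0, F4.e0, F4.e0, F4.e0, F4.e0, F4.e0, F4.e0⟩,
     ⟨F4.e0, F4.e0, F4.e2, F4.e1, F4.e0, F4.e0, F4.e0, F4.e0, F4.e0, F4.e0, F4.e0, F4.e0, F4.e0, F4.e0⟩,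
     ⟨F4.e0, F4.e0, F4.e0, F4.e0, F4.e1, F4.e0, F4.e0, F4.e0, F4.e0, F4.e0, F4.e0, F4.e0, F4.e0, F4.e0⟩,
     ⟨F4.e0, F4.e0, F4.e0, F4.e0, F4.e0, F4.e1, F4.e0, F4.e0, F4.e0, F4.e0, F4.e0, F4.e0, F4.e0, F4.e0⟩,
     ⟨F4.e0, F4.e0, F4.e0, F4.e0, F4.e0, F4.e2, F4.e1, F4.e0, F4.e0, F4.e0, F4.e0, F4.e0, F4.e0, F4.e0⟩,
     ⟨F4.e0, F4.e0, F4.e0, F4.e0, F4.e0, F4.e0, F4.e0, F4.e1, F4.e0, F4.e0, F4.e0, F4.e0, F4.e0, F4.e0⟩,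
     ⟨F4.e2, F4.e0, F4.e0, F4.e0, F4.e0, F4.e0, F4.e0, F4.e3, F4.e1, F4.e0, F4.e0, F4.e0, F4.e0, F4.e0⟩,
     ⟨F4.e0, F4.e0, F4.e0, F4.e0, F4.e0, F4.e0, F4.e0, F4.e0, F4.e0, F4.e1, F4.e0, F4.e0, F4.e0, F4.e0⟩,
     ⟨F4.e0, F4.e0, F4.e0, F4.e0, F4.e0, F4.e0, F4.e0, F4.e0, F4.e0, F4.e2, F4.e1, F4.e0, F4.e0, F4.e0⟩,
     ⟨F4.e0, F4.e0, F4.e0, F4.e0, F4.e0, F4.e0, F4.e0, F4.e0, F4.e0, F4.e0, F4.e0, F4.e1, F4.e0, F4.e0⟩,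
     ⟨F4.e0, F4.e0, F4.e0, F4.e0, F4.e0, F4.e0, F4.e0, F4.e0, F4.e0, F4.e0, F4.e0, F4.e0, F4.e1, F4.e0⟩,
     ⟨F4.e0, F4.e0, F4.e0, F4.e0, F4.e0, F4.e0, F4.e0, F4.e0, F4.e0, F4.e0, F4.e0, F4.e0, F4.e2, F4.e1⟩⟩
  | 7, 1 =>
    ⟨⟨F4.e1, F4.e0, F4.e0, F4.e0, F4.e0, F4.e0, F4.e1, F4.e0, F4.e0, F4.e0, F4.e0, F4.e0, F4.e0, F4.e0⟩,
     ⟨F4.e0, F4.e1, F4.e0, F4.e0, F4.e0, F4.e0, F4.e0, F4.e0, F4.e0, F4.e0, F4.e0, F4.e0, F4.e0, F4.e0⟩,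
     ⟨F4.e0, F4.e0, F4.e1, F4.e0, F4.e0, F4.e0, F4.e0, F4.e0, F4.e0, F4.e0, F4.e0, F4.e0, F4.e0, F4.e0⟩,
     ⟨F4.e0, F4.e0, F4.e0, F4.e1, F4.e0, F4.e0, F4.e0, F4.e0, F4.e0, F4.e0, F4.e0, F4.e0, F4.e0, F4.e0⟩,
     ⟨F4.e0, F4.e0, F4.e0, F4.e1, F4.e1, F4.e0, F4.e0, F4.e0, F4.e0, F4.e0, F4.e0, F4.e0, F4.e0, F4.e0⟩,
     ⟨F4.e0, F4.e0, F4.e0, F4.e1, F4.e0, F4.e1, F4.e0, F4.e0, F4.e0, F4.e0, F4.e0, F4.e0, F4.e0, F4.e0⟩,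
     ⟨F4.e0, F4.e0, F4.e0, F4.e0, F4.e0, F4.e0, F4.e1, F4.e0, F4.e0, F4.e0, F4.e0, F4.e0, F4.e0, F4.e0⟩,
     ⟨F4.e0, F4.e0, F4.e0, F4.e1, F4.e1, F4.e1, F4.e0, F4.e1, F4.e0, F4.e0, F4.e0, F4.e0, F4.e0, F4.e0⟩,
     ⟨F4.e0, F4.e0, F4.e0, F4.e0, F4.e0, F4.e0, F4.e0, F4.e0, F4.e1, F4.e0, F4.e0, F4.e0, F4.e0, F4.e0⟩,
     ⟨F4.e0, F4.e1, F4.e0, F4.e0, F4.e0, F4.e0, F4.e1, F4.e0, F4.e0, F4.e1, F4.e0, F4.e0, F4.e0, F4.e0⟩,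
     ⟨F4.e0, F4.e0, F4.e0, F4.e0, F4.e0, F4.e0, F4.e0, F4.e0, F4.e1, F4.e0, F4.e1, F4.e0, F4.e0, F4.e0⟩,
     ⟨F4.e0, F4.e0, F4.e0, F4.e0, F4.e0, F4.e0, F4.e0, F4.e0, F4.e1, F4.e0, F4.e0, F4.e1, F4.e0, F4.e0⟩,
     ⟨F4.e0, F4.e0, F4.e0, F4.e0, F4.e0, F4.e0, F4.e0, F4.e0, F4.e1, F4.e0, F4.e1, F4.e1, F4.e1, F4.e0⟩,
     ⟨F4.e0, F4.e0, F4.e0, F4.e0, F4.e0, F4.e0, F4.e0, F4.e0, F4.e0, F4.e0, F4.e0, F4.e0, F4.e0, F4.e1⟩⟩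
  | 7, 2 =>
    ⟨⟨F4.e1, F4.e0, F4.e0, F4.e0, F4.e0, F4.e0, F4.e2, F4.e0, F4.e0, F4.e0, F4.e0, F4.e0, F4.e0, F4.e0⟩,
     ⟨F4.e0, F4.e1, F4.e0, F4.e0, F4.e0, F4.e0, F4.e0, F4.e0, F4.e0, F4.e0, F4.e0, F4.e0, F4.e0, F4.e0⟩,
     ⟨F4.e0, F4.e0, F4.e1, F4.e0, F4.e0, F4.e0, F4.e0, F4.e0, F4.e0, F4.e0, F4.e0, F4.e0, F4.e0, F4.e0⟩,
     ⟨F4.e0, F4.e0, F4.e0, F4.e1, F4.e0, F4.e0, F4.e0, F4.e0, F4.e0, F4.e0, F4.e0, F4.e0, F4.e0, F4.e0⟩,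
     ⟨F4.e0, F4.e0, F4.e0, F4.e2, F4.e1, F4.e0, F4.e0, F4.e0, F4.e0, F4.e0, F4.e0, F4.e0, F4.e0, F4.e0⟩,
     ⟨F4.e0, F4.e0, F4.e0, F4.e3, F4.e0, F4.e1, F4.e0, F4.e0, F4.e0, F4.e0, F4.e0, F4.e0, F4.e0, F4.e0⟩,
     ⟨F4.e0, F4.e0, F4.e0, F4.e0, F4.e0, F4.e0, F4.e1, F4.e0, F4.e0, F4.e0, F4.e0, F4.e0, F4.e0, F4.e0⟩,
     ⟨F4.e0, F4.e0, F4.e0, F4.e1, F4.e3, F4.e2, F4.e0, F4.e1, F4.e0, F4.e0, F4.e0, F4.e0, F4.e0, F4.e0⟩,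
     ⟨F4.e0, F4.e0, F4.e0, F4.e0, F4.e0, F4.e0, F4.e0, F4.e0, F4.e1, F4.e0, F4.e0, F4.e0, F4.e0, F4.e0⟩,
     ⟨F4.e0, F4.e2, F4.e0, F4.e0, F4.e0, F4.e0, F4.e3, F4.e0, F4.e0, F4.e1, F4.e0, F4.e0, F4.e0, F4.e0⟩,
     ⟨F4.e0, F4.e0, F4.e0, F4.e0, F4.e0, F4.e0, F4.e0, F4.e0, F4.e2, F4.e0, F4.e1, F4.e0, F4.e0, F4.e0⟩,
     ⟨F4.e0, F4.e0, F4.e0, F4.e0, F4.e0, F4.e0, F4.e0, F4.e0, F4.e3, F4.e0, F4.e0, F4.e1, F4.e0, F4.e0⟩,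
     ⟨F4.e0, F4.e0, F4.e0, F4.e0, F4.e0, F4.e0, F4.e0, F4.e0, F4.e1, F4.e0, F4.e3, F4.e2, F4.e1, F4.e0⟩,
     ⟨F4.e0, F4.e0, F4.e0, F4.e0, F4.e0, F4.e0, F4.e0, F4.e0, F4.e0, F4.e0, F4.e0, F4.e0, F4.e0, F4.e1⟩⟩
  | 9, 1 =>
    ⟨⟨F4.e1, F4.e0, F4.e0, F4.e0, F4.e0, F4.e0, F4.e0, F4.e0, F4.e0, F4.e0, F4.e0, F4.e0, F4.e0, F4.e0⟩,
     ⟨F4.e0, F4.e1, F4.e0, F4.e0, F4.e1, F4.e0, F4.e0, F4.e0, F4.e0, F4.e0, F4.e0, F4.e0, F4.e0, F4.e0⟩,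
     ⟨F4.e0, F4.e0, F4.e1, F4.e0, F4.e0, F4.e0, F4.e0, F4.e0, F4.e0, F4.e0, F4.e0, F4.e0, F4.e0, F4.e0⟩,
     ⟨F4.e0, F4.e0, F4.e0, F4.e1, F4.e0, F4.e0, F4.e0, F4.e0, F4.e0, F4.e0, F4.e0, F4.e0, F4.e0, F4.e0⟩,
     ⟨F4.e0, F4.e0, F4.e0, F4.e0, F4.e1, F4.e0, F4.e0, F4.e0, F4.e0, F4.e0, F4.e0, F4.e0, F4.e0, F4.e0⟩,
     ⟨F4.e0, F4.e0, F4.e1, F4.e0, F4.e0, F4.e1, F4.e0, F4.e0, F4.e0, F4.e0, F4.e0, F4.e0, F4.e0, F4.e0⟩,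
     ⟨F4.e0, F4.e0, F4.e0, F4.e1, F4.e0, F4.e0, F4.e1, F4.e0, F4.e0, F4.e0, F4.e0, F4.e0, F4.e0, F4.e0⟩,
     ⟨F4.e0, F4.e0, F4.e0, F4.e0, F4.e0, F4.e0, F4.e0, F4.e1, F4.e0, F4.e0, F4.e0, F4.e0, F4.e0, F4.e0⟩,
     ⟨F4.e0, F4.e0, F4.e0, F4.e0, F4.e0, F4.e0, F4.e0, F4.e0, F4.e1, F4.e0, F4.e0, F4.e0, F4.e0, F4.e0⟩,
     ⟨F4.e0, F4.e0, F4.e1, F4.e0, F4.e0, F4.e0, F4.e0, F4.e0, F4.e0, F4.e1, F4.e0, F4.e0, F4.e0, F4.e0⟩,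
     ⟨F4.e0, F4.e0, F4.e0, F4.e1, F4.e0, F4.e0, F4.e0, F4.e0, F4.e0, F4.e0, F4.e1, F4.e0, F4.e0, F4.e0⟩,
     ⟨F4.e1, F4.e0, F4.e0, F4.e0, F4.e1, F4.e0, F4.e0, F4.e0, F4.e0, F4.e0, F4.e0, F4.e1, F4.e0, F4.e0⟩,
     ⟨F4.e0, F4.e0, F4.e1, F4.e0, F4.e0, F4.e1, F4.e0, F4.e0, F4.e0, F4.e1, F4.e0, F4.e0, F4.e1, F4.e0⟩,
     ⟨F4.e0, F4.e0, F4.e0, F4.e1, F4.e0, F4.e0, F4.e1, F4.e0, F4.e0, F4.e0, F4.e1, F4.e0, F4.e0, F4.e1⟩⟩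
  | 11, 1 =>
    ⟨⟨F4.e1, F4.e0, F4.e1, F4.e0, F4.e0, F4.e0, F4.e0, F4.e0, F4.e0, F4.e0, F4.e0, F4.e0, F4.e0, F4.e0⟩,
     ⟨F4.e0, F4.e1, F4.e0, F4.e0, F4.e0, F4.e0, F4.e0, F4.e0, F4.e0, F4.e0, F4.e0, F4.e0, F4.e0, F4.e0⟩,
     ⟨F4.e0, F4.e0, F4.e1, F4.e0, F4.e0, F4.e0, F4.e0, F4.e0, F4.e0, F4.e0, F4.e0, F4.e0, F4.e0, F4.e0⟩,
     ⟨F4.e0, F4.e0, F4.e0, F4.e1, F4.e0, F4.e0, F4.e0, F4.e0, F4.e0, F4.e0, F4.e0, F4.e0, F4.e0, F4.e0⟩,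
     ⟨F4.e0, F4.e0, F4.e0, F4.e0, F4.e1, F4.e0, F4.e0, F4.e0, F4.e0, F4.e0, F4.e0, F4.e0, F4.e0, F4.e0⟩,
     ⟨F4.e0, F4.e0, F4.e0, F4.e0, F4.e0, F4.e1, F4.e0, F4.e0, F4.e0, F4.e0, F4.e0, F4.e0, F4.e0, F4.e0⟩,
     ⟨F4.e0, F4.e0, F4.e0, F4.e0, F4.e0, F4.e0, F4.e1, F4.e0, F4.e0, F4.e0, F4.e0, F4.e0, F4.e0, F4.e0⟩,
     ⟨F4.e0, F4.e0, F4.e0, F4.e0, F4.e0, F4.e0, F4.e0, F4.e1, F4.e0, F4.e0, F4.e0, F4.e0, F4.e0, F4.e0⟩,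
     ⟨F4.e0, F4.e0, F4.e0, F4.e1, F4.e0, F4.e0, F4.e0, F4.e0, F4.e1, F4.e0, F4.e0, F4.e0, F4.e0, F4.e0⟩,
     ⟨F4.e0, F4.e0, F4.e0, F4.e0, F4.e0, F4.e0, F4.e0, F4.e0, F4.e0, F4.e1, F4.e0, F4.e0, F4.e0, F4.e0⟩,
     ⟨F4.e0, F4.e0, F4.e0, F4.e0, F4.e1, F4.e0, F4.e0, F4.e0, F4.e0, F4.e0, F4.e1, F4.e0, F4.e0, F4.e0⟩,
     ⟨F4.e0, F4.e0, F4.e0, F4.e0, F4.e0, F4.e1, F4.e0, F4.e0, F4.e0, F4.e0, F4.e0, F4.e1, F4.e0, F4.e0⟩,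
     ⟨F4.e0, F4.e0, F4.e0, F4.e0, F4.e0, F4.e0, F4.e0, F4.e1, F4.e0, F4.e0, F4.e0, F4.e0, F4.e1, F4.e0⟩,
     ⟨F4.e0, F4.e1, F4.e1, F4.e0, F4.e0, F4.e0, F4.e0, F4.e0, F4.e0, F4.e0, F4.e0, F4.e0, F4.e0, F4.e1⟩⟩
  | _, _ => M14.one

/-- the pairs (root, code) that are used. -/
def usedPairs : List (ℕ × ℕ) := [(4, 1), (4, 2), (5, 1), (5, 2), (6, 1), (6, 2), (7, 1), (7, 2), (9, 1), (11, 1)]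

/-- entries of the data (as a plain function, so that decidability is found). -/
def xI (p : ℕ × ℕ) (i j : IdxG) : F4 := toMatI (xM p.1 p.2) i j

/-- entries of the root element of the definition. -/
def xC (p : ℕ × ℕ) (i j : IdxG) : F4 := Cfsg.Lie.chevG2.x F4 p.1 (tOf p.2) i j

set_option maxHeartbeats 0 in
theorem xchk : ∀ p ∈ usedPairs, ∀ i j : IdxG, xI p i j = xC p i j := by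
  decide +kernel

theorem xsq : ∀ p ∈ usedPairs, (xM p.1 p.2).mul (xM p.1 p.2) = M14.one := by
  decide +kernel

theorem lt_of_used : ∀ p ∈ usedPairs, p.1 < Cfsg.Lie.chevG2.nroots := by decide

/-- a used root element in `GL`. -/
def xGL (p : ℕ × ℕ) (hp : p ∈ usedPairs) : GL IdxG F4 :=
  ⟨toMatI (xM p.1 p.2), toMatI (xM p.1 p.2), by rw [← toMatI_mul, xsq p hp, toMatI_one],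
    by rw [← toMatI_mul, xsq p hp, toMatI_one]⟩

theorem xGL_mem (p : ℕ × ℕ) (hp : p ∈ usedPairs) : xGL p hp ∈ Cfsg.Lie.chevG2.group F4 := by
  apply Subgroup.subset_closure
  refine ⟨⟨p.1, lt_of_used p hp⟩, tOf p.2, ?_⟩
  have h : toMatI (xM p.1 p.2) = Cfsg.Lie.chevG2.x F4 p.1 (tOf p.2) := by
    ext i j; exact xchk p hp i j
  show toMatI (xM p.1 p.2) = _
  rw [h]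
  unfold Cfsg.Lie.ChevalleyDatum.x
  rw [dif_pos (lt_of_used p hp)]

/-- the words of the six generators in root elements. -/
def wordOf : SuzP1.Gen → List (ℕ × ℕ)
  | .a => [(11, 1)]
  | .b => [(5, 2), (4, 1), (5, 1), (4, 1), (5, 1), (11, 1), (5, 1), (4, 1), (5, 1), (4, 1), (5, 2)]
  | .c => [(6, 1), (5, 1), (11, 1), (5, 1), (6, 1)]
  | .d => [(4, 1), (5, 2), (4, 1), (7, 1), (9, 1), (7, 1), (4, 1), (5, 2), (4, 1)]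
  | .e => [(5, 2), (7, 2), (4, 2), (7, 2), (7, 1), (9, 1), (7, 1), (7, 2), (4, 2), (7, 2), (5, 2)]
  | .f => [(5, 2), (6, 2), (5, 1), (11, 1), (5, 1), (6, 2), (5, 2)]

theorem wordOf_used : ∀ x : SuzP1.Gen, ∀ p ∈ wordOf x, p ∈ usedPairs := by
  intro x; cases x <;> decide

/-- product of a word in root elements, on the data. -/
def evW : List (ℕ × ℕ) → M14
  | [] => M14.one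
  | p :: w => (xM p.1 p.2).mul (evW w)

/-- the six generators as data. -/
def genM : SuzP1.Gen → M14
  | .a =>
    ⟨⟨F4.e1, F4.e0, F4.e1, F4.e0, F4.e0, F4.e0, F4.e0, F4.e0, F4.e0, F4.e0, F4.e0, F4.e0, F4.e0, F4.e0⟩,
     ⟨F4.e0, F4.e1, F4.e0, F4.e0, F4.e0, F4.e0, F4.e0, F4.e0, F4.e0, F4.e0, F4.e0, F4.e0, F4.e0, F4.e0⟩,
     ⟨F4.e0, F4.e0, F4.e1, F4.e0, F4.e0, F4.e0, F4.e0, F4.e0, F4.e0, F4.e0, F4.e0, F4.e0, F4.e0, F4.e0⟩,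
     ⟨F4.e0, F4.e0, F4.e0, F4.e1, F4.e0, F4.e0, F4.e0, F4.e0, F4.e0, F4.e0, F4.e0, F4.e0, F4.e0, F4.e0⟩,
     ⟨F4.e0, F4.e0, F4.e0, F4.e0, F4.e1, F4.e0, F4.e0, F4.e0, F4.e0, F4.e0, F4.e0, F4.e0, F4.e0, F4.e0⟩,
     ⟨F4.e0, F4.e0, F4.e0, F4.e0, F4.e0, F4.e1, F4.e0, F4.e0, F4.e0, F4.e0, F4.e0, F4.e0, F4.e0, F4.e0⟩,
     ⟨F4.e0, F4.e0, F4.e0, F4.e0, F4.e0, F4.e0, F4.e1, F4.e0, F4.e0, F4.e0, F4.e0, F4.e0, F4.e0, F4.e0⟩,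
     ⟨F4.e0, F4.e0, F4.e0, F4.e0, F4.e0, F4.e0, F4.e0, F4.e1, F4.e0, F4.e0, F4.e0, F4.e0, F4.e0, F4.e0⟩,
     ⟨F4.e0, F4.e0, F4.e0, F4.e1, F4.e0, F4.e0, F4.e0, F4.e0, F4.e1, F4.e0, F4.e0, F4.e0, F4.e0, F4.e0⟩,
     ⟨F4.e0, F4.e0, F4.e0, F4.e0, F4.e0, F4.e0, F4.e0, F4.e0, F4.e0, F4.e1, F4.e0, F4.e0, F4.e0, F4.e0⟩,
     ⟨F4.e0, F4.e0, F4.e0, F4.e0, F4.e1, F4.e0, F4.e0, F4.e0, F4.e0, F4.e0, F4.e1, F4.e0, F4.e0, F4.e0⟩,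
     ⟨F4.e0, F4.e0, F4.e0, F4.e0, F4.e0, F4.e1, F4.e0, F4.e0, F4.e0, F4.e0, F4.e0, F4.e1, F4.e0, F4.e0⟩,
     ⟨F4.e0, F4.e0, F4.e0, F4.e0, F4.e0, F4.e0, F4.e0, F4.e1, F4.e0, F4.e0, F4.e0, F4.e0, F4.e1, F4.e0⟩,
     ⟨F4.e0, F4.e1, F4.e1, F4.e0, F4.e0, F4.e0, F4.e0, F4.e0, F4.e0, F4.e0, F4.e0, F4.e0, F4.e0, F4.e1⟩⟩
  | .b =>
    ⟨⟨F4.e2, F4.e1, F4.e0, F4.e0, F4.e1, F4.e0, F4.e0, F4.e1, F4.e0, F4.e0, F4.e0, F4.e1, F4.e0, F4.e0⟩,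
     ⟨F4.e2, F4.e2, F4.e3, F4.e3, F4.e2, F4.e2, F4.e2, F4.e2, F4.e0, F4.e0, F4.e2, F4.e2, F4.e2, F4.e1⟩,
     ⟨F4.e1, F4.e0, F4.e0, F4.e3, F4.e3, F4.e3, F4.e1, F4.e3, F4.e0, F4.e0, F4.e2, F4.e2, F4.e2, F4.e3⟩,
     ⟨F4.e2, F4.e0, F4.e0, F4.e1, F4.e1, F4.e1, F4.e2, F4.e1, F4.e2, F4.e0, F4.e1, F4.e1, F4.e1, F4.e2⟩,
     ⟨F4.e2, F4.e1, F4.e0, F4.e1, F4.e1, F4.e1, F4.e3, F4.e1, F4.e0, F4.e1, F4.e3, F4.e1, F4.e1, F4.e2⟩,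
     ⟨F4.e2, F4.e0, F4.e0, F4.e2, F4.e1, F4.e2, F4.e3, F4.e1, F4.e0, F4.e0, F4.e1, F4.e3, F4.e1, F4.e2⟩,
     ⟨F4.e0, F4.e0, F4.e0, F4.e1, F4.e0, F4.e1, F4.e2, F4.e0, F4.e1, F4.e0, F4.e0, F4.e1, F4.e0, F4.e0⟩,
     ⟨F4.e0, F4.e0, F4.e2, F4.e0, F4.e0, F4.e3, F4.e0, F4.e0, F4.e0, F4.e1, F4.e0, F4.e0, F4.e2, F4.e0⟩,
     ⟨F4.e2, F4.e1, F4.e1, F4.e3, F4.e1, F4.e1, F4.e2, F4.e1, F4.e0, F4.e0, F4.e1, F4.e1, F4.e1, F4.e3⟩,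
     ⟨F4.e2, F4.e0, F4.e3, F4.e1, F4.e1, F4.e3, F4.e2, F4.e2, F4.e0, F4.e2, F4.e3, F4.e3, F4.e2, F4.e1⟩,
     ⟨F4.e2, F4.e0, F4.e1, F4.e2, F4.e0, F4.e1, F4.e3, F4.e1, F4.e3, F4.e1, F4.e2, F4.e1, F4.e1, F4.e3⟩,
     ⟨F4.e2, F4.e1, F4.e1, F4.e2, F4.e1, F4.e0, F4.e1, F4.e1, F4.e0, F4.e0, F4.e1, F4.e1, F4.e1, F4.e3⟩,
     ⟨F4.e3, F4.e0, F4.e2, F4.e3, F4.e2, F4.e2, F4.e1, F4.e3, F4.e0, F4.e1, F4.e2, F4.e1, F4.e1, F4.e3⟩,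
     ⟨F4.e3, F4.e0, F4.e1, F4.e2, F4.e1, F4.e1, F4.e3, F4.e1, F4.e2, F4.e0, F4.e0, F4.e0, F4.e0, F4.e0⟩⟩
  | .c =>
    ⟨⟨F4.e1, F4.e0, F4.e0, F4.e1, F4.e0, F4.e0, F4.e0, F4.e0, F4.e0, F4.e0, F4.e0, F4.e0, F4.e0, F4.e0⟩,
     ⟨F4.e0, F4.e1, F4.e0, F4.e1, F4.e0, F4.e0, F4.e0, F4.e0, F4.e0, F4.e0, F4.e0, F4.e0, F4.e0, F4.e0⟩,
     ⟨F4.e0, F4.e0, F4.e1, F4.e0, F4.e0, F4.e0, F4.e0, F4.e0, F4.e0, F4.e0, F4.e0, F4.e0, F4.e0, F4.e0⟩,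
     ⟨F4.e0, F4.e0, F4.e0, F4.e1, F4.e0, F4.e0, F4.e0, F4.e0, F4.e0, F4.e0, F4.e0, F4.e0, F4.e0, F4.e0⟩,
     ⟨F4.e0, F4.e0, F4.e0, F4.e0, F4.e1, F4.e0, F4.e0, F4.e0, F4.e0, F4.e0, F4.e0, F4.e0, F4.e0, F4.e0⟩,
     ⟨F4.e0, F4.e0, F4.e0, F4.e0, F4.e0, F4.e1, F4.e0, F4.e0, F4.e0, F4.e0, F4.e0, F4.e0, F4.e0, F4.e0⟩,
     ⟨F4.e0, F4.e0, F4.e0, F4.e0, F4.e0, F4.e0, F4.e1, F4.e0, F4.e0, F4.e0, F4.e0, F4.e0, F4.e0, F4.e0⟩,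
     ⟨F4.e0, F4.e0, F4.e1, F4.e0, F4.e0, F4.e0, F4.e0, F4.e1, F4.e0, F4.e0, F4.e0, F4.e0, F4.e0, F4.e0⟩,
     ⟨F4.e0, F4.e0, F4.e0, F4.e0, F4.e0, F4.e0, F4.e0, F4.e0, F4.e1, F4.e0, F4.e0, F4.e0, F4.e0, F4.e0⟩,
     ⟨F4.e0, F4.e0, F4.e0, F4.e0, F4.e1, F4.e0, F4.e0, F4.e0, F4.e0, F4.e1, F4.e0, F4.e0, F4.e0, F4.e0⟩,
     ⟨F4.e0, F4.e0, F4.e0, F4.e0, F4.e0, F4.e0, F4.e0, F4.e0, F4.e0, F4.e0, F4.e1, F4.e0, F4.e0, F4.e0⟩,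
     ⟨F4.e0, F4.e0, F4.e0, F4.e0, F4.e0, F4.e0, F4.e1, F4.e0, F4.e0, F4.e0, F4.e0, F4.e1, F4.e0, F4.e0⟩,
     ⟨F4.e1, F4.e1, F4.e0, F4.e1, F4.e0, F4.e0, F4.e0, F4.e0, F4.e0, F4.e0, F4.e0, F4.e0, F4.e1, F4.e0⟩,
     ⟨F4.e0, F4.e0, F4.e0, F4.e0, F4.e0, F4.e0, F4.e0, F4.e0, F4.e1, F4.e0, F4.e0, F4.e0, F4.e0, F4.e1⟩⟩
  | .d =>
    ⟨⟨F4.e1, F4.e3, F4.e2, F4.e2, F4.e1, F4.e1, F4.e1, F4.e3, F4.e0, F4.e1, F4.e0, F4.e0, F4.e0, F4.e0⟩,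
     ⟨F4.e0, F4.e1, F4.e2, F4.e0, F4.e2, F4.e1, F4.e0, F4.e3, F4.e0, F4.e0, F4.e0, F4.e0, F4.e0, F4.e0⟩,
     ⟨F4.e0, F4.e0, F4.e1, F4.e0, F4.e0, F4.e0, F4.e0, F4.e0, F4.e0, F4.e0, F4.e0, F4.e0, F4.e0, F4.e0⟩,
     ⟨F4.e0, F4.e0, F4.e3, F4.e1, F4.e3, F4.e2, F4.e0, F4.e1, F4.e0, F4.e0, F4.e0, F4.e0, F4.e0, F4.e0⟩,
     ⟨F4.e0, F4.e0, F4.e1, F4.e3, F4.e1, F4.e1, F4.e0, F4.e2, F4.e0, F4.e0, F4.e0, F4.e0, F4.e0, F4.e0⟩,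
     ⟨F4.e0, F4.e0, F4.e2, F4.e2, F4.e1, F4.e1, F4.e0, F4.e3, F4.e0, F4.e0, F4.e0, F4.e0, F4.e0, F4.e0⟩,
     ⟨F4.e0, F4.e1, F4.e0, F4.e3, F4.e2, F4.e0, F4.e2, F4.e0, F4.e0, F4.e3, F4.e0, F4.e0, F4.e0, F4.e0⟩,
     ⟨F4.e0, F4.e0, F4.e0, F4.e1, F4.e2, F4.e3, F4.e0, F4.e1, F4.e0, F4.e0, F4.e0, F4.e0, F4.e0, F4.e0⟩,
     ⟨F4.e3, F4.e3, F4.e0, F4.e2, F4.e0, F4.e0, F4.e1, F4.e0, F4.e1, F4.e0, F4.e3, F4.e2, F4.e1, F4.e0⟩,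
     ⟨F4.e0, F4.e1, F4.e3, F4.e1, F4.e2, F4.e3, F4.e3, F4.e1, F4.e0, F4.e2, F4.e0, F4.e0, F4.e0, F4.e0⟩,
     ⟨F4.e1, F4.e1, F4.e0, F4.e3, F4.e0, F4.e0, F4.e3, F4.e0, F4.e3, F4.e0, F4.e1, F4.e1, F4.e2, F4.e0⟩,
     ⟨F4.e2, F4.e1, F4.e0, F4.e3, F4.e1, F4.e0, F4.e2, F4.e0, F4.e2, F4.e2, F4.e1, F4.e1, F4.e3, F4.e0⟩,
     ⟨F4.e0, F4.e2, F4.e1, F4.e1, F4.e3, F4.e3, F4.e1, F4.e2, F4.e1, F4.e3, F4.e2, F4.e3, F4.e1, F4.e0⟩,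
     ⟨F4.e2, F4.e2, F4.e0, F4.e1, F4.e0, F4.e0, F4.e3, F4.e0, F4.e0, F4.e0, F4.e2, F4.e1, F4.e3, F4.e1⟩⟩
  | .e =>
    ⟨⟨F4.e1, F4.e0, F4.e3, F4.e3, F4.e0, F4.e2, F4.e3, F4.e0, F4.e0, F4.e0, F4.e0, F4.e0, F4.e0, F4.e0⟩,
     ⟨F4.e0, F4.e1, F4.e2, F4.e0, F4.e1, F4.e2, F4.e0, F4.e0, F4.e0, F4.e0, F4.e0, F4.e0, F4.e0, F4.e0⟩,
     ⟨F4.e0, F4.e0, F4.e1, F4.e0, F4.e0, F4.e0, F4.e0, F4.e0, F4.e0, F4.e0, F4.e0, F4.e0, F4.e0, F4.e0⟩,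
     ⟨F4.e0, F4.e0, F4.e0, F4.e1, F4.e0, F4.e0, F4.e0, F4.e0, F4.e0, F4.e0, F4.e0, F4.e0, F4.e0, F4.e0⟩,
     ⟨F4.e0, F4.e0, F4.e2, F4.e3, F4.e1, F4.e0, F4.e0, F4.e0, F4.e0, F4.e0, F4.e0, F4.e0, F4.e0, F4.e0⟩,
     ⟨F4.e0, F4.e0, F4.e1, F4.e2, F4.e0, F4.e1, F4.e0, F4.e0, F4.e0, F4.e0, F4.e0, F4.e0, F4.e0, F4.e0⟩,
     ⟨F4.e0, F4.e0, F4.e3, F4.e1, F4.e0, F4.e0, F4.e1, F4.e0, F4.e0, F4.e0, F4.e0, F4.e0, F4.e0, F4.e0⟩,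
     ⟨F4.e0, F4.e0, F4.e0, F4.e1, F4.e2, F4.e3, F4.e0, F4.e1, F4.e0, F4.e0, F4.e0, F4.e0, F4.e0, F4.e0⟩,
     ⟨F4.e0, F4.e0, F4.e1, F4.e1, F4.e3, F4.e0, F4.e2, F4.e0, F4.e1, F4.e0, F4.e0, F4.e0, F4.e0, F4.e0⟩,
     ⟨F4.e0, F4.e3, F4.e1, F4.e2, F4.e3, F4.e1, F4.e2, F4.e2, F4.e0, F4.e1, F4.e0, F4.e0, F4.e0, F4.e0⟩,
     ⟨F4.e2, F4.e2, F4.e1, F4.e2, F4.e3, F4.e3, F4.e1, F4.e0, F4.e3, F4.e0, F4.e1, F4.e0, F4.e0, F4.e0⟩,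
     ⟨F4.e1, F4.e0, F4.e1, F4.e2, F4.e0, F4.e3, F4.e3, F4.e3, F4.e2, F4.e0, F4.e0, F4.e1, F4.e0, F4.e0⟩,
     ⟨F4.e0, F4.e3, F4.e1, F4.e3, F4.e2, F4.e2, F4.e2, F4.e1, F4.e1, F4.e1, F4.e2, F4.e3, F4.e1, F4.e0⟩,
     ⟨F4.e2, F4.e3, F4.e0, F4.e1, F4.e1, F4.e1, F4.e1, F4.e1, F4.e0, F4.e3, F4.e1, F4.e2, F4.e0, F4.e1⟩⟩
  | .f =>
    ⟨⟨F4.e1, F4.e0, F4.e3, F4.e0, F4.e0, F4.e0, F4.e0, F4.e0, F4.e0, F4.e0, F4.e0, F4.e0, F4.e0, F4.e0⟩,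
     ⟨F4.e0, F4.e1, F4.e0, F4.e0, F4.e0, F4.e0, F4.e0, F4.e0, F4.e0, F4.e0, F4.e0, F4.e0, F4.e0, F4.e0⟩,
     ⟨F4.e0, F4.e0, F4.e1, F4.e0, F4.e0, F4.e0, F4.e0, F4.e0, F4.e0, F4.e0, F4.e0, F4.e0, F4.e0, F4.e0⟩,
     ⟨F4.e0, F4.e0, F4.e0, F4.e1, F4.e0, F4.e0, F4.e0, F4.e0, F4.e0, F4.e0, F4.e0, F4.e0, F4.e0, F4.e0⟩,
     ⟨F4.e0, F4.e0, F4.e0, F4.e0, F4.e1, F4.e0, F4.e0, F4.e0, F4.e0, F4.e0, F4.e0, F4.e0, F4.e0, F4.e0⟩,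
     ⟨F4.e0, F4.e0, F4.e0, F4.e0, F4.e0, F4.e1, F4.e0, F4.e0, F4.e0, F4.e0, F4.e0, F4.e0, F4.e0, F4.e0⟩,
     ⟨F4.e0, F4.e0, F4.e0, F4.e0, F4.e0, F4.e0, F4.e1, F4.e0, F4.e0, F4.e0, F4.e0, F4.e0, F4.e0, F4.e0⟩,
     ⟨F4.e0, F4.e0, F4.e0, F4.e0, F4.e0, F4.e0, F4.e0, F4.e1, F4.e0, F4.e0, F4.e0, F4.e0, F4.e0, F4.e0⟩,
     ⟨F4.e0, F4.e0, F4.e0, F4.e3, F4.e0, F4.e0, F4.e0, F4.e0, F4.e1, F4.e0, F4.e0, F4.e0, F4.e0, F4.e0⟩,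
     ⟨F4.e0, F4.e0, F4.e0, F4.e0, F4.e0, F4.e0, F4.e0, F4.e0, F4.e0, F4.e1, F4.e0, F4.e0, F4.e0, F4.e0⟩,
     ⟨F4.e0, F4.e0, F4.e0, F4.e0, F4.e3, F4.e0, F4.e0, F4.e0, F4.e0, F4.e0, F4.e1, F4.e0, F4.e0, F4.e0⟩,
     ⟨F4.e0, F4.e0, F4.e0, F4.e0, F4.e0, F4.e3, F4.e0, F4.e0, F4.e0, F4.e0, F4.e0, F4.e1, F4.e0, F4.e0⟩,
     ⟨F4.e0, F4.e0, F4.e0, F4.e0, F4.e0, F4.e0, F4.e0, F4.e3, F4.e0, F4.e0, F4.e0, F4.e0, F4.e1, F4.e0⟩,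
     ⟨F4.e0, F4.e3, F4.e2, F4.e0, F4.e0, F4.e0, F4.e0, F4.e0, F4.e0, F4.e0, F4.e0, F4.e0, F4.e0, F4.e1⟩⟩

theorem genM_eq (x : SuzP1.Gen) : genM x = evW (wordOf x) := by
  cases x <;> decide +kernel

/-- product of a word in `GL`, all letters used. -/
def wGL : (w : List (ℕ × ℕ)) → (∀ p ∈ w, p ∈ usedPairs) → GL IdxG F4
  | [], _ => 1
  | p :: w, h => xGL p (h p (List.mem_cons_self ..)) * wGL w (fun q hq => h q (List.mem_cons_of_mem _ hq))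

theorem wGL_mem : ∀ (w : List (ℕ × ℕ)) (h : ∀ p ∈ w, p ∈ usedPairs),
    wGL w h ∈ Cfsg.Lie.chevG2.group F4
  | [], _ => Subgroup.one_mem _
  | p :: w, h => Subgroup.mul_mem _ (xGL_mem p _) (wGL_mem w _)

theorem wGL_val : ∀ (w : List (ℕ × ℕ)) (h : ∀ p ∈ w, p ∈ usedPairs),
    ((wGL w h : GL IdxG F4) : Matrix IdxG IdxG F4) = toMatI (evW w)
  | [], _ => by simp [wGL, evW, toMatI_one]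
  | p :: w, h => by
    rw [wGL, Units.val_mul, wGL_val w, evW, toMatI_mul]
    rfl

/-- the generators in the Chevalley group. -/
def gC (x : SuzP1.Gen) : ↥(Cfsg.Lie.chevG2.group F4) :=
  ⟨wGL (wordOf x) (wordOf_used x), wGL_mem _ _⟩

theorem gC_val (x : SuzP1.Gen) :
    (((gC x : ↥(Cfsg.Lie.chevG2.group F4)) : GL IdxG F4) : Matrix IdxG IdxG F4) =
      toMatI (genM x) := by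
  show ((wGL (wordOf x) (wordOf_used x) : GL IdxG F4) : Matrix IdxG IdxG F4) = _
  rw [wGL_val, genM_eq]

/-- product of a word in the generators, on the data. -/
def evM : List SuzP1.Gen → M14
  | [] => M14.one
  | a :: w => (genM a).mul (evM w)

/-- product of a word in the Chevalley group. -/
def evS (w : List SuzP1.Gen) : ↥(Cfsg.Lie.chevG2.group F4) := (w.map gC).prod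

theorem evS_val (w : List SuzP1.Gen) :
    (((evS w : ↥(Cfsg.Lie.chevG2.group F4)) : GL IdxG F4) : Matrix IdxG IdxG F4) =
      toMatI (evM w) := by
  induction w with
  | nil => simp [evS, evM, toMatI_one]
  | cons a w ih =>
    have : evS (a :: w) = gC a * evS w := by simp [evS]
    rw [this, Subgroup.coe_mul, Units.val_mul, ih, gC_val, evM, toMatI_mul]

theorem evS_eq_of {u v : List SuzP1.Gen} (h : evM u = evM v) : evS u = evS v := by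
  apply Subtype.ext
  apply Units.ext
  rw [evS_val, evS_val, h]

theorem evS_eq_one {w : List SuzP1.Gen} (h : evM w = M14.one) : evS w = 1 := by
  have := evS_eq_of (u := w) (v := []) h
  rw [this]; rfl

theorem evS_append (u v : List SuzP1.Gen) : evS (u ++ v) = evS u * evS v := by
  simp [evS]

theorem evS_replicate (k : ℕ) (u : List SuzP1.Gen) :
    evS (List.replicate k u).flatten = evS u ^ k := by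
  induction k with
  | zero => simp [evS]
  | succ k ih => rw [List.replicate_succ, List.flatten_cons, evS_append, ih, pow_succ']

theorem pair_pow (x y : SuzP1.Gen) (k : ℕ)
    (h : evM (List.replicate k [x, y]).flatten = M14.one) : (gC x * gC y) ^ k = 1 := by
  have h1 := evS_eq_one h
  rw [evS_replicate] at h1
  simpa [evS] using h1

set_option maxHeartbeats 0 in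
theorem coxC (x y : SuzP1.Gen) :
    (gC x * gC y) ^ Cfsg.Spor.coxLabel SuzP1.edges x y = 1 := by
  cases x <;> cases y <;> exact pair_pow _ _ _ (by decide +kernel)

set_option maxHeartbeats 0 in
theorem exA : evS [.a] = evS [.c, .d] ^ 4 := by
  rw [← evS_replicate]
  exact evS_eq_of (by decide +kernel)

set_option maxHeartbeats 0 in
theorem exB : evS [.a, .b, .c, .f] ^ 5 = 1 := by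
  rw [← evS_replicate]
  exact evS_eq_one (by decide +kernel)

/-- the word `(bcdcd)^5 e`. -/
def longW : List SuzP1.Gen := (List.replicate 5 [.b, .c, .d, .c, .d]).flatten ++ [.e]

set_option maxHeartbeats 0 in
theorem exC : evS longW ^ 3 = 1 := by
  rw [← evS_replicate]
  exact evS_eq_one (by decide +kernel)

theorem gC_ne_one : gC .a ≠ 1 := by
  intro h
  have h1 : (((gC .a : ↥(Cfsg.Lie.chevG2.group F4)) : GL IdxG F4) : Matrix IdxG IdxG F4) = 1 := by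
    rw [h]; rfl
  rw [gC_val, ← toMatI_one] at h1
  have h2 : toMat14 (genM .a) = toMat14 M14.one := by
    have := congrArg (fun M => M.submatrix e14.symm e14.symm) h1
    simpa [toMatI] using this
  have h3 := congrFun (congrFun h2 0) 2
  revert h3
  rw [toMat14_apply, toMat14_apply]
  decide +kernel

end Cfsg.Agent.Helper17.G24
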