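import Mathlib
import Cfsg.Agent.Helper17.G24.Gens
import Cfsg.Agent.Helper17.SuzP1Ord.Simple
import Cfsg.Agent.Helper17.SuzOrd.Lower
import Cfsg.Agent.Helper17.PermFin
import Cfsg.Agent.S1059

/-!
# The `G₂(4)`-subgroup of the presented Suzuki group

The sub-presentation `SuzP1` (nodes `a, …, f` of the `Suz` diagram with the three relators in these
letters) is a simple group of order `251596800`; six involutions of the Chevalley group `G₂(4)`
(given as products of root elements) satisfy its relators, which gives a homomorphism to `G₂(4)`,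
injective by simplicity and bijective by counting.
-/

set_option autoImplicit false
set_option linter.all false

noncomputable section

namespace Cfsg.Agent.Helper17.G24

open Cfsg.Spor Cfsg.Agent.Helper17.SuzSub Cfsg.Agent.Helper17.U62

/-- the Chevalley group. -/
abbrev GC : Type := ↥(Cfsg.Lie.chevG2.group F4)

theorem rel0 : ∀ r ∈ SuzP1TC.Rels, FreeGroup.lift gC r = 1 := by
  intro r hr
  rcases hr with ⟨x, _, y, _, rfl⟩ | hr
  · rw [map_pow, map_mul, FreeGroup.lift_apply_of, FreeGroup.lift_apply_of]
    exact coxC x y
  · simp only [Set.mem_setOf_eq, SuzP1.extra, List.mem_cons, List.mem_singleton, List.not_mem_nil,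
      or_false] at hr
    rcases hr with rfl | rfl | rfl
    · have h := exA
      simp only [map_pow, map_mul, map_inv, FreeGroup.lift_apply_of]
      rw [mul_inv_eq_one]
      simpa [evS, mul_assoc] using h
    · have h := exB
      simp only [map_pow, map_mul, FreeGroup.lift_apply_of]
      simpa [evS, mul_assoc] using h
    · have h := exC
      simp only [map_pow, map_mul, FreeGroup.lift_apply_of]
      have h5 : evS longW = (gC .b * gC .c * gC .d * gC .c * gC .d) ^ 5 * gC .e := by
        unfold longW
        rw [evS_append, evS_replicate]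
        simp [evS, mul_assoc]
      rw [h5] at h
      exact h

/-- the homomorphism to the Chevalley group. -/
def psi : SuzP1TC.G →* GC := PresentedGroup.toGroup rel0

theorem psi_of (x : SuzP1.Gen) : psi (PresentedGroup.of x) = gC x :=
  PresentedGroup.toGroup.of rel0

theorem psi_inj : Function.Injective psi := by
  haveI := SuzP1Ord.isSimple
  apply PermFin.injective_of_simple psi (a := PresentedGroup.of SuzP1.Gen.a)
  rw [psi_of]
  exact gC_ne_one

theorem card_GC : Nat.card GC = 251596800 := by
  have h := Cfsg.Agent.S1059.result (F := F4) (q := 4) F4.card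
  rw [h]
  norm_num

theorem psi_bij : Function.Bijective psi := by
  haveI : Finite GC := by
    apply Nat.finite_of_card_ne_zero
    rw [card_GC]; norm_num
  apply psi_inj.bijective_of_nat_card_le
  rw [card_GC, SuzP1Ord.card_G]

/-- the sub-presentation is `G₂(4)`. -/
def eC : SuzP1TC.G ≃* GC := MulEquiv.ofBijective psi psi_bij

/-! ### the subgroup of `Suz` -/

theorem card_Hs : Nat.card SuzTC.Hs = 251596800 := by
  have h1 := SuzOrd.card_G_eq
  rw [SuzOrd.card_G] at h1
  omega

/-- the surjection of the sub-presentation onto the subgroup. -/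
def gH : SuzP1TC.G →* SuzTC.Hs :=
  SuzOrd.phi1.codRestrict SuzTC.Hs (fun x => by rw [SuzOrd.range1]; exact ⟨x, rfl⟩)

theorem gH_surj : Function.Surjective gH := by
  rintro ⟨y, hy⟩
  have hy' : y ∈ SuzOrd.phi1.range := SuzOrd.range1 ▸ hy
  obtain ⟨x, hx⟩ := hy'
  exact ⟨x, Subtype.ext hx⟩

theorem gH_bij : Function.Bijective gH := by
  haveI := SuzP1Ord.finG
  apply gH_surj.bijective_of_nat_card_le
  rw [card_Hs, SuzP1Ord.card_G]

/-- the subgroup `⟨a, …, f⟩` of the presented `Suz` is the sub-presentation. -/
def eH : SuzP1TC.G ≃* SuzTC.Hs := MulEquiv.ofBijective gH gH_bij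

/-- the subgroup `⟨a, …, f⟩` of the presented `Suz` is `G₂(4)`. -/
def eHC : SuzTC.Hs ≃* GC := eH.symm.trans eC

end Cfsg.Agent.Helper17.G24
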